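import Mathlib.AlgebraicGeometry.ProjectiveSpectrum.Basic
import Mathlib.RingTheory.IntegralClosure.IntegrallyClosed
import Mathlib.RingTheory.GradedAlgebra.HomogeneousLocalization
import Mathlib.RingTheory.Localization.FractionRing
import Mathlib.RingTheory.Ideal.BigOperators

/-!
Homogeneous localizations of normal graded rings are normal.
-/

set_option autoImplicit false

universe u

open DirectSum HomogeneousLocalization

namespace Groth.Agent.ProjNormal

variable {A : Type u} [CommRing A] (𝒜 : ℕ → AddSubgroup A) [GradedRing 𝒜] (p : Ideal A) [p.IsPrime]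

lemma valHom_injective : Function.Injective (algebraMap (HomogeneousLocalization.AtPrime 𝒜 p) (Localization.AtPrime p)) :=
  val_injective _

theorem isDomain_atPrime [IsDomain (Localization.AtPrime p)] : IsDomain (HomogeneousLocalization.AtPrime 𝒜 p) :=
  (valHom_injective 𝒜 p).isDomain

lemma exists_homogeneous_not_mem {u : A} (hu : u ∉ p) : ∃ j, (decompose 𝒜 u j : A) ∉ p := by
  by_contra h
  push Not at h
  classical
  apply hu
  rw [← sum_support_decompose 𝒜 u]
  exact Ideal.sum_mem _ fun j _ => h j

theorem isIntegrallyClosed_atPrime [IsDomain (Localization.AtPrime p)] [IsIntegrallyClosed (Localization.AtPrime p)] :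
    IsIntegrallyClosed (HomogeneousLocalization.AtPrime 𝒜 p) := by
  haveI := isDomain_atPrime 𝒜 p
  set R := HomogeneousLocalization.AtPrime 𝒜 p
  set B := Localization.AtPrime p
  have hinj := valHom_injective 𝒜 p
  rw [isIntegrallyClosed_iff (FractionRing R)]
  intro x hx
  obtain ⟨α, β, hβ, rfl⟩ := IsFractionRing.div_surjective (A := R) x
  let F : FractionRing R →+* FractionRing B :=
    IsFractionRing.lift (g := (algebraMap B (FractionRing B)).comp (algebraMap R B))
      ((IsFractionRing.injective B (FractionRing B)).comp hinj)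
  have hF : ∀ r : R, F (algebraMap R _ r) = algebraMap B _ (algebraMap R B r) := fun r =>
    IsFractionRing.lift_algebraMap _ r
  have hint : IsIntegral B (F (algebraMap R _ α / algebraMap R _ β)) := by
    obtain ⟨P, hP, hP0⟩ := hx
    refine ⟨P.map (algebraMap R B), hP.map _, ?_⟩
    rw [Polynomial.eval₂_map, show (algebraMap B (FractionRing B)).comp (algebraMap R B) = F.comp (algebraMap R _) from
      RingHom.ext fun r => (hF r).symm, ← Polynomial.hom_eval₂, hP0, map_zero]
  obtain ⟨γ, hγ⟩ := IsIntegrallyClosed.isIntegral_iff.1 hint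
  have hβ0 : algebraMap B (FractionRing B) (algebraMap R B β) ≠ 0 := fun h => nonZeroDivisors.ne_zero hβ
    (hinj (by rw [map_zero]; exact IsFractionRing.injective B (FractionRing B) (by rw [h, map_zero])))
  have hγ' : algebraMap R B α = γ * algebraMap R B β := by
    rw [map_div₀, hF, hF, eq_div_iff hβ0] at hγ
    exact IsFractionRing.injective B (FractionRing B) (by rw [map_mul, hγ])
  obtain ⟨⟨c, t⟩, hct⟩ := IsLocalization.surj p.primeCompl γ
  obtain ⟨a, rfl⟩ := mk_surjective α
  obtain ⟨b, rfl⟩ := mk_surjective β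
  change (HomogeneousLocalization.mk a).val = γ * (HomogeneousLocalization.mk b).val at hγ'
  rw [val_mk, val_mk, Localization.mk_eq_mk'] at hγ'
  -- `(t * a.num * b.den) / 1 = (c * b.num * a.den) / 1`
  have e1 : algebraMap A B (t * (a.num * b.den)) = algebraMap A B (c * (b.num * a.den)) := by
    have h1 := IsLocalization.mk'_spec B (a.num : A) (⟨(a.den : A), a.den_mem⟩ : p.primeCompl)
    have h2 := IsLocalization.mk'_spec B (b.num : A) (⟨(b.den : A), b.den_mem⟩ : p.primeCompl)
    dsimp only at h1 h2
    rw [map_mul, map_mul, map_mul, map_mul, ← h1, ← h2, hγ', ← hct]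
    ring
  obtain ⟨w, hw⟩ := (IsLocalization.eq_iff_exists p.primeCompl B).1 e1
  -- homogeneous witness
  obtain ⟨j, hj⟩ := exists_homogeneous_not_mem 𝒜 p (p.primeCompl.mul_mem w.2 t.2)
  have hm1 : (a.num : A) * b.den ∈ 𝒜 (a.deg + b.deg) := SetLike.mul_mem_graded a.num.2 b.den.2
  have hm2 : (b.num : A) * a.den ∈ 𝒜 (a.deg + b.deg) := by
    rw [add_comm]; exact SetLike.mul_mem_graded b.num.2 a.den.2
  have e2 : (decompose 𝒜 ((w : A) * t) j : A) * (a.num * b.den) =
      (decompose 𝒜 ((w : A) * c) j : A) * (b.num * a.den) := by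
    rw [← coe_decompose_mul_add_of_right_mem 𝒜 hm1, ← coe_decompose_mul_add_of_right_mem 𝒜 hm2,
      mul_assoc, mul_assoc, hw]
  let δ : R := .mk { deg := j, num := decompose 𝒜 ((w : A) * c) j, den := decompose 𝒜 ((w : A) * t) j, den_mem := hj }
  refine ⟨δ, ?_⟩
  rw [eq_div_iff (fun h => nonZeroDivisors.ne_zero hβ (IsFractionRing.injective R _ (by rw [h, map_zero]))), ← map_mul]
  congr 1
  apply hinj
  rw [map_mul]
  change δ.val * (HomogeneousLocalization.mk b).val = (HomogeneousLocalization.mk a).val
  rw [show δ.val = _ from val_mk _, val_mk, val_mk, Localization.mk_mul,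
    Localization.mk_eq_mk_iff, Localization.r_iff_exists]
  refine ⟨1, ?_⟩
  simp only [Submonoid.coe_mul, OneMemClass.coe_one, one_mul]
  linear_combination -e2

open AlgebraicGeometry in
theorem stalk_normal (hA : ∀ (q : Ideal A) [q.IsPrime], IsDomain (Localization.AtPrime q) ∧
    IsIntegrallyClosed (Localization.AtPrime q)) (x : Proj 𝒜) :
    IsDomain ((Proj 𝒜).presheaf.stalk x) ∧ IsIntegrallyClosed ((Proj 𝒜).presheaf.stalk x) := by
  haveI := x.isPrime
  haveI := (hA x.asHomogeneousIdeal.toIdeal).1
  haveI := (hA x.asHomogeneousIdeal.toIdeal).2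
  haveI := isDomain_atPrime 𝒜 x.asHomogeneousIdeal.toIdeal
  haveI := isIntegrallyClosed_atPrime 𝒜 x.asHomogeneousIdeal.toIdeal
  let e := (Proj.stalkIso 𝒜 x).commRingCatIsoToRingEquiv
  exact ⟨e.toMulEquiv.isDomain _, IsIntegrallyClosed.of_equiv e.symm⟩

end Groth.Agent.ProjNormal
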